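import Groth.Agent.FlatGenStable.Basic

set_option autoImplicit false

/-! Finite modules with locally constant fibre dimension over reduced rings. -/

namespace Groth.Agent.FlatGenStable

open Module TensorProduct

variable {R : Type*} [CommRing R] {M : Type*} [AddCommGroup M] [Module R M]

lemma exists_span_away_fibre [Module.Finite R M] (p : PrimeSpectrum R) :
    ∃ (g : R) (ψ : (Fin (finrank p.asIdeal.ResidueField (p.asIdeal.ResidueField ⊗[R] M)) → R) →ₗ[R] M),
      g ∉ p.asIdeal ∧ ∀ m : M, ∃ v, ψ v = g • m := by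
  classical
  let k := p.asIdeal.ResidueField
  obtain ⟨n, π, hπ⟩ := Module.Finite.exists_fin' R M
  let w : Fin n → k ⊗[R] M := fun i ↦ 1 ⊗ₜ[R] π (Pi.single i 1)
  have hw : Submodule.span k (Set.range w) = ⊤ := by
    refine eq_top_iff.2 fun y _ ↦ ?_
    induction y using TensorProduct.induction_on with
    | zero => exact zero_mem _
    | add a b ha hb => exact add_mem (ha trivial) (hb trivial)
    | tmul c m =>
      obtain ⟨v, rfl⟩ := hπ m
      rw [show v = ∑ i, v i • (Pi.single i (1 : R) : Fin n → R) from pi_eq_sum_univ' v, map_sum,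
        TensorProduct.tmul_sum]
      refine Submodule.sum_mem _ fun i _ ↦ ?_
      rw [map_smul, TensorProduct.tmul_smul, ← algebraMap_smul k (v i),
        show c ⊗ₜ[R] π (Pi.single i 1) = c • w i by simp [w, TensorProduct.smul_tmul']]
      exact Submodule.smul_mem _ _ (Submodule.smul_mem _ _ (Submodule.subset_span ⟨i, rfl⟩))
  obtain ⟨κ, a, ha, hsp, hli⟩ := exists_linearIndependent' k w
  rw [hw] at hsp
  have : Fintype κ := Fintype.ofInjective a ha
  have hcard : Fintype.card κ = finrank k (k ⊗[R] M) :=
    (finrank_eq_card_basis (Basis.mk hli (by rw [hsp]))).symm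
  let e : Fin (finrank k (k ⊗[R] M)) ≃ κ := ((Fintype.equivFinOfCardEq hcard)).symm
  let ψ : (Fin (finrank k (k ⊗[R] M)) → R) →ₗ[R] M :=
    Fintype.linearCombination R (fun j ↦ π (Pi.single (a (e j)) 1))
  have hQ : p ∉ Module.support R (M ⧸ LinearMap.range ψ) := by
    rw [Module.mem_support_iff_nontrivial_residueField_tensorProduct,
      not_nontrivial_iff_subsingleton]
    set q := (LinearMap.range ψ).mkQ.baseChange k
    have hq : Function.Surjective q :=
      LinearMap.lTensor_surjective k (Submodule.mkQ_surjective _)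
    refine subsingleton_of_forall_eq 0 fun y ↦ ?_
    obtain ⟨x, rfl⟩ := hq y
    have hx : x ∈ Submodule.span k (Set.range (w ∘ a)) := by rw [hsp]; trivial
    induction hx using Submodule.span_induction with
    | mem z hz =>
      obtain ⟨j, rfl⟩ := hz
      simp only [q, Function.comp_apply, w, LinearMap.baseChange_tmul, Submodule.mkQ_apply]
      rw [(Submodule.Quotient.mk_eq_zero _).2, TensorProduct.tmul_zero]
      exact ⟨Pi.single (e.symm j) 1, by simp [ψ, Fintype.linearCombination_apply_single]⟩
    | zero => simp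
    | add u v _ _ hu hv => rw [map_add, hu, hv, add_zero]
    | smul c u _ hu => rw [map_smul, hu, smul_zero]
  rw [Module.mem_support_iff_of_finite, SetLike.not_le_iff_exists] at hQ
  obtain ⟨g, hg, hgp⟩ := hQ
  refine ⟨g, ψ, hgp, fun m ↦ ?_⟩
  have := Module.mem_annihilator.1 hg (Submodule.Quotient.mk m)
  rw [← Submodule.Quotient.mk_smul, Submodule.Quotient.mk_eq_zero] at this
  exact this

lemma exists_bijective_away_of_reduced [IsReduced R] [Module.Finite R M]
    (h : IsLocallyConstant fun p : PrimeSpectrum R ↦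
      finrank p.asIdeal.ResidueField (p.asIdeal.ResidueField ⊗[R] M))
    (p : PrimeSpectrum R) :
    ∃ (g : R) (r : ℕ) (ψ : (Fin r → R) →ₗ[R] M), g ∉ p.asIdeal ∧
      Function.Bijective (LocalizedModule.map (Submonoid.powers g) ψ) := by
  obtain ⟨g₀, ψ, hg₀, hψ⟩ := exists_span_away_fibre (M := M) p
  obtain ⟨_, ⟨g₁, rfl⟩, hp₁, hsub⟩ :=
    PrimeSpectrum.isTopologicalBasis_basic_opens.exists_subset_of_mem_open
      (show p ∈ (fun q : PrimeSpectrum R ↦
          finrank q.asIdeal.ResidueField (q.asIdeal.ResidueField ⊗[R] M)) ⁻¹'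
        {finrank p.asIdeal.ResidueField (p.asIdeal.ResidueField ⊗[R] M)} from rfl)
      (h.isOpen_fiber _)
  refine ⟨g₀ * g₁, _, ψ, fun hh ↦ (p.2.mem_or_mem hh).elim hg₀ hp₁, ?_, ?_⟩
  · rw [← LinearMap.ker_eq_bot, Submodule.eq_bot_iff]
    intro y hy
    induction y using LocalizedModule.induction_on with
    | h v s =>
      rw [LinearMap.mem_ker, LocalizedModule.map_mk, mk_eq_zero_iff] at hy
      obtain ⟨u, hu⟩ := hy
      set w := (u : R) • v with hw
      have hw0 : ψ w = 0 := by rw [hw, map_smul]; exact hu
      have key : ∀ q : PrimeSpectrum R, g₀ * g₁ ∉ q.asIdeal → ∀ i, w i ∈ q.asIdeal := by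
        intro q hq i
        have hq₀ : g₀ ∉ q.asIdeal := fun hh ↦ hq (Ideal.mul_mem_right _ _ hh)
        have hq₁ : g₁ ∉ q.asIdeal := fun hh ↦ hq (Ideal.mul_mem_left _ _ hh)
        let k := q.asIdeal.ResidueField
        have : Nontrivial R :=
          nontrivial_of_ne (0 : R) 1 fun h ↦ q.2.ne_top ((Ideal.eq_top_iff_one _).2 (h ▸ q.asIdeal.zero_mem))
        have hs : Function.Surjective (ψ.baseChange k) := by
          intro y
          induction y using TensorProduct.induction_on with
          | zero => exact ⟨0, map_zero _⟩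
          | add a b ha hb =>
            obtain ⟨a', rfl⟩ := ha
            obtain ⟨b', rfl⟩ := hb
            exact ⟨a' + b', map_add _ _ _⟩
          | tmul c m =>
            obtain ⟨x, hx⟩ := hψ m
            have hu : algebraMap R k g₀ ≠ 0 := by
              rwa [ne_eq, Ideal.algebraMap_residueField_eq_zero]
            refine ⟨(c * (algebraMap R k g₀)⁻¹) ⊗ₜ[R] x, ?_⟩
            rw [LinearMap.baseChange_tmul, hx, TensorProduct.tmul_smul, TensorProduct.smul_tmul',
              Algebra.smul_def, mul_comm c, ← mul_assoc, mul_inv_cancel₀ hu, one_mul]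
        have hb := OrzechProperty.bijective_of_surjective_of_finrank_le (R := k) (ψ.baseChange k) hs
          (by rw [Module.finrank_tensorProduct, Module.finrank_self, one_mul, Module.finrank_fin_fun]
              exact (hsub hq₁).ge)
        have h1 : (1 : k) ⊗ₜ[R] w = 0 := hb.1 (by simp [hw0])
        have h2 := congrArg ((LinearMap.proj i : (Fin _ → R) →ₗ[R] R).baseChange k) h1
        rw [map_zero, LinearMap.baseChange_tmul] at h2
        have h3 := congrArg (TensorProduct.rid R k) h2
        rw [map_zero, TensorProduct.rid_tmul, Algebra.smul_def, mul_one] at h3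
        exact Ideal.algebraMap_residueField_eq_zero.1 h3
      rw [mk_eq_zero_iff]
      refine ⟨⟨g₀ * g₁, Submonoid.mem_powers _⟩ * u, ?_⟩
      rw [Submonoid.coe_mul, mul_smul, ← hw]
      ext i
      apply IsReduced.eq_zero
      rw [← mem_nilradical, nilradical, Ideal.radical_eq_sInf, Submodule.mem_sInf]
      rintro (q : Ideal R) ⟨-, hq⟩
      by_cases hh : g₀ * g₁ ∈ q
      · exact q.mul_mem_right _ hh
      · exact q.mul_mem_left _ (key ⟨q, hq⟩ hh i)
  · refine map_surjective_of_smul _ ψ ⟨g₀ * g₁, Submonoid.mem_powers _⟩ fun m ↦ ?_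
    obtain ⟨v, hv⟩ := hψ (g₁ • m)
    exact ⟨v, by rw [hv, ← mul_smul]⟩

lemma projective_of_isLocallyConstant_fibre [IsReduced R] [Module.Finite R M]
    (h : IsLocallyConstant fun p : PrimeSpectrum R ↦
      finrank p.asIdeal.ResidueField (p.asIdeal.ResidueField ⊗[R] M)) : Module.Projective R M := by
  choose g r ψ hg hψ using exists_bijective_away_of_reduced h
  have : Module.FinitePresentation R M := by
    refine Module.FinitePresentation.of_localizationSpan (s := Set.range g) ?_ ?_
    · by_contra hne
      obtain ⟨m, hm, hle⟩ := Ideal.exists_le_maximal _ hne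
      exact hg ⟨m, hm.isPrime⟩ (hle (Ideal.subset_span ⟨_, rfl⟩))
    · rintro ⟨_, p, rfl⟩
      exact Module.FinitePresentation.of_equiv (LinearEquiv.ofBijective _ (hψ p))
  rw [← Module.freeLocus_eq_univ_iff, Set.eq_univ_iff_forall]
  intro p
  have : Module.Projective (Localization.Away (g p))
      (LocalizedModule.Away (g p) M) := by
    have : Module.Projective (Localization.Away (g p))
        (LocalizedModule.Away (g p) (Fin (r p) → R)) :=
      Module.projective_of_isLocalizedModule (Submonoid.powers (g p))
        (LocalizedModule.mkLinearMap (Submonoid.powers (g p)) _)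
    exact Module.Projective.of_equiv (LinearEquiv.ofBijective _ (hψ p))
  exact Module.basicOpen_subset_freeLocus_iff.2 this (hg p)

end Groth.Agent.FlatGenStable
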