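import Mathlib

set_option autoImplicit false

/-! Finite flat modules and closed subsets stable under generalization. -/

namespace Groth.Agent.FlatGenStable

open Module LocalizedModule

variable {R : Type*} [CommRing R] {M : Type*} [AddCommGroup M] [Module R M]

lemma mk_eq_zero_iff {S : Submonoid R} {m : M} {s : S} :
    LocalizedModule.mk m s = 0 ↔ ∃ u : S, (u : R) • m = 0 := by
  rw [← LocalizedModule.zero_mk s, LocalizedModule.mk_eq]
  refine ⟨fun ⟨u, hu⟩ ↦ ⟨u * s, ?_⟩, fun ⟨u, hu⟩ ↦ ⟨u, ?_⟩⟩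
  · simpa [Submonoid.smul_def, mul_smul] using hu
  · simp only [Submonoid.smul_def, smul_zero]
    rw [smul_comm, hu, smul_zero]

/-- Near `p` a finite module with free stalk of rank `r` at `p` is generated by `r` elements. -/
lemma exists_span_away [Module.Finite R M] [Module.Flat R M] (p : PrimeSpectrum R) :
    ∃ (g : R) (ψ : (Fin (rankAtStalk M p) → R) →ₗ[R] M),
      g ∉ p.asIdeal ∧ ∀ m : M, ∃ v, ψ v = g • m := by
  classical
  set S := p.asIdeal.primeCompl
  have : Module.Free (Localization.AtPrime p.asIdeal) (LocalizedModule S M) :=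
    Module.free_of_flat_of_isLocalRing
  set b := Module.finBasis (Localization.AtPrime p.asIdeal) (LocalizedModule S M)
  have hb : ∀ i, ∃ x : M × S, LocalizedModule.mk x.1 x.2 = b i := fun i ↦ by
    induction b i using LocalizedModule.induction_on with
    | h m s => exact ⟨(m, s), rfl⟩
  choose x hx using hb
  let ψ : (Fin (rankAtStalk M p) → R) →ₗ[R] M :=
    Fintype.linearCombination R (fun i ↦ (x i).1)
  have hψ : Function.Surjective (LocalizedModule.map S ψ) := by
    rw [← LinearMap.range_eq_top, eq_top_iff, ← b.span_eq, Submodule.span_le]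
    rintro _ ⟨i, rfl⟩
    refine ⟨LocalizedModule.mk (Pi.single i 1) (x i).2, ?_⟩
    rw [LocalizedModule.map_mk, ← hx]
    congr 1
    exact (Fintype.linearCombination_apply_single R _ i 1).trans (one_smul _ _)
  let Q := M ⧸ LinearMap.range ψ
  have hQ : p ∉ Module.support R Q := by
    rw [Module.notMem_support_iff']
    intro q
    obtain ⟨m, rfl⟩ := Submodule.Quotient.mk_surjective _ q
    obtain ⟨y, hy⟩ := hψ (LocalizedModule.mk m 1)
    induction y using LocalizedModule.induction_on with
    | h v s =>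
      rw [LocalizedModule.map_mk, LocalizedModule.mk_eq] at hy
      obtain ⟨u, hu⟩ := hy
      refine ⟨(u : R) * (s : R), S.mul_mem u.2 s.2, ?_⟩
      rw [← Submodule.Quotient.mk_smul, Submodule.Quotient.mk_eq_zero]
      refine ⟨(u : R) • v, ?_⟩
      rw [map_smul, mul_smul]
      simpa [Submonoid.smul_def] using hu
  rw [Module.mem_support_iff_of_finite, SetLike.not_le_iff_exists] at hQ
  obtain ⟨g, hg, hgp⟩ := hQ
  refine ⟨g, ψ, hgp, fun m ↦ ?_⟩
  have := Module.mem_annihilator.1 hg (Submodule.Quotient.mk m)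
  rw [← Submodule.Quotient.mk_smul, Submodule.Quotient.mk_eq_zero] at this
  exact this

lemma map_surjective_of_smul {N : Type*} [AddCommGroup N] [Module R N] (S : Submonoid R)
    (ψ : N →ₗ[R] M) (g : S) (h : ∀ m : M, ∃ v, ψ v = (g : R) • m) :
    Function.Surjective (LocalizedModule.map S ψ) := by
  intro y
  induction y using LocalizedModule.induction_on with
  | h m s =>
    obtain ⟨v, hv⟩ := h m
    refine ⟨LocalizedModule.mk v (g * s), ?_⟩
    rw [LocalizedModule.map_mk, LocalizedModule.mk_eq]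
    refine ⟨1, ?_⟩
    simp [hv, Submonoid.smul_def, ← mul_smul, mul_comm]

lemma finrank_localized_fin (q : PrimeSpectrum R) (r : ℕ) :
    Module.finrank (Localization.AtPrime q.asIdeal)
      (LocalizedModule q.asIdeal.primeCompl (Fin r → R)) = r := by
  have : Nontrivial R :=
    nontrivial_of_ne (0 : R) 1 fun h ↦ q.2.ne_top ((Ideal.eq_top_iff_one _).2 (h ▸ q.asIdeal.zero_mem))
  exact (congrFun (Module.rankAtStalk_eq_finrank_of_free (R := R) (M := Fin r → R)) q).trans
    (by simp)

/-- The rank of a finite flat module is upper semicontinuous. -/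
lemma isOpen_rankAtStalk_le [Module.Finite R M] [Module.Flat R M] (n : ℕ) :
    IsOpen {p : PrimeSpectrum R | rankAtStalk M p ≤ n} := by
  refine isOpen_iff_forall_mem_open.2 fun p hp ↦ ?_
  obtain ⟨g, ψ, hgp, hψ⟩ := exists_span_away (M := M) p
  refine ⟨PrimeSpectrum.basicOpen g, fun q hq ↦ ?_, (PrimeSpectrum.basicOpen g).2, hgp⟩
  have hs := map_surjective_of_smul q.asIdeal.primeCompl ψ ⟨g, hq⟩ hψ
  have : Module.Free (Localization.AtPrime q.asIdeal)
      (LocalizedModule q.asIdeal.primeCompl (Fin (rankAtStalk M p) → R)) :=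
    Module.free_of_flat_of_isLocalRing
  have h1 := LinearMap.finrank_range_le (LocalizedModule.map q.asIdeal.primeCompl ψ)
  rw [LinearMap.range_eq_top.2 hs, finrank_top, finrank_localized_fin] at h1
  exact le_trans h1 hp

lemma stableUnderGeneralization_rankAtStalk [Module.Finite R M] [Module.Flat R M] (n : ℕ) :
    StableUnderGeneralization {p : PrimeSpectrum R | n ≤ rankAtStalk M p} := by
  intro x y hxy hx
  rw [← PrimeSpectrum.le_iff_specializes] at hxy
  simp only [Set.mem_ofPred_eq, rankAtStalk_eq_of_le_of_finite_of_flat M hxy] at hx ⊢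
  exact hx

lemma isLocallyConstant_rankAtStalk_of_isOpen [Module.Finite R M] [Module.Flat R M]
    (h : ∀ n, IsOpen {p : PrimeSpectrum R | n ≤ rankAtStalk M p}) :
    IsLocallyConstant (rankAtStalk (R := R) M) := by
  rw [IsLocallyConstant.iff_isOpen_fiber]
  intro n
  have : (rankAtStalk (R := R) M) ⁻¹' {n} =
      {p | rankAtStalk M p ≤ n} ∩ {p | n ≤ rankAtStalk M p} := by
    ext p
    simp [le_antisymm_iff]
  rw [this]
  exact (isOpen_rankAtStalk_le n).inter (h n)

/-- Near `p`, a finite flat module with locally constant rank is free. -/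
lemma exists_bijective_away [Module.Finite R M] [Module.Flat R M]
    (h : IsLocallyConstant (rankAtStalk (R := R) M)) (p : PrimeSpectrum R) :
    ∃ (g : R) (ψ : (Fin (rankAtStalk M p) → R) →ₗ[R] M), g ∉ p.asIdeal ∧
      Function.Bijective (LocalizedModule.map (Submonoid.powers g) ψ) := by
  obtain ⟨g₀, ψ, hg₀, hψ⟩ := exists_span_away (M := M) p
  obtain ⟨_, ⟨g₁, rfl⟩, hp₁, hsub⟩ :=
    PrimeSpectrum.isTopologicalBasis_basic_opens.exists_subset_of_mem_open
      (show p ∈ (rankAtStalk (R := R) M) ⁻¹' {rankAtStalk M p} from rfl)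
      (h.isOpen_fiber (rankAtStalk M p))
  refine ⟨g₀ * g₁, ψ, ?_, ?_, ?_⟩
  · exact fun hh ↦ (p.2.mem_or_mem hh).elim hg₀ hp₁
  · rw [← LinearMap.ker_eq_bot, Submodule.eq_bot_iff]
    intro y hy
    induction y using LocalizedModule.induction_on with
    | h v s =>
      rw [LinearMap.mem_ker, LocalizedModule.map_mk, mk_eq_zero_iff] at hy
      obtain ⟨u, hu⟩ := hy
      set w := (u : R) • v with hw
      have hw0 : ψ w = 0 := by rw [hw, map_smul]; exact hu
      -- `w` dies in every localization inside `D(g₀ * g₁)`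
      have key : ∀ q : PrimeSpectrum R, g₀ * g₁ ∉ q.asIdeal →
          (LocalizedModule.mk w 1 : LocalizedModule q.asIdeal.primeCompl _) = 0 := by
        intro q hq
        have hq₀ : g₀ ∉ q.asIdeal := fun hh ↦ hq (Ideal.mul_mem_right _ _ hh)
        have hq₁ : g₁ ∉ q.asIdeal := fun hh ↦ hq (Ideal.mul_mem_left _ _ hh)
        have hr : rankAtStalk M q = rankAtStalk M p := hsub hq₁
        have : Module.Free (Localization.AtPrime q.asIdeal)
            (LocalizedModule q.asIdeal.primeCompl (Fin (rankAtStalk M p) → R)) :=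
          Module.free_of_flat_of_isLocalRing
        have : Module.Free (Localization.AtPrime q.asIdeal)
            (LocalizedModule q.asIdeal.primeCompl M) :=
          Module.free_of_flat_of_isLocalRing
        have hb := OrzechProperty.bijective_of_surjective_of_finrank_le
          (R := Localization.AtPrime q.asIdeal)
          (LocalizedModule.map q.asIdeal.primeCompl ψ)
          (map_surjective_of_smul q.asIdeal.primeCompl ψ ⟨g₀, hq₀⟩ hψ)
          (by rw [finrank_localized_fin]; exact hr.ge)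
        refine hb.1 ?_
        rw [LocalizedModule.map_mk, hw0, map_zero, LocalizedModule.zero_mk]
      -- hence a power of `g₀ * g₁` kills `w`
      have hann : g₀ * g₁ ∈ Ideal.radical (LinearMap.ker (LinearMap.toSpanSingleton R _ w) : Ideal R) := by
        rw [Ideal.radical_eq_sInf, Submodule.mem_sInf]
        rintro q ⟨hle, hq⟩
        by_contra hh
        obtain ⟨t, ht⟩ := mk_eq_zero_iff.1 (key ⟨q, hq⟩ hh)
        exact t.2 (hle (by simpa [LinearMap.mem_ker, Submonoid.smul_def] using ht))
      obtain ⟨k, hk⟩ := hann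
      rw [mk_eq_zero_iff]
      refine ⟨⟨(g₀ * g₁) ^ k, k, rfl⟩ * u, ?_⟩
      have hk' : ((g₀ * g₁) ^ k) • w = 0 := hk
      simp [mul_smul, ← hw, hk']
  · refine map_surjective_of_smul _ ψ ⟨g₀ * g₁, Submonoid.mem_powers _⟩ fun m ↦ ?_
    obtain ⟨v, hv⟩ := hψ (g₁ • m)
    exact ⟨v, by rw [hv, ← mul_smul]⟩

lemma finitePresentation_of_isLocallyConstant [Module.Finite R M] [Module.Flat R M]
    (h : IsLocallyConstant (rankAtStalk (R := R) M)) : Module.FinitePresentation R M := by
  classical
  choose g ψ hg hψ using exists_bijective_away h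
  refine Module.FinitePresentation.of_localizationSpan (s := Set.range g) ?_ ?_
  · by_contra hne
    obtain ⟨m, hm, hle⟩ := Ideal.exists_le_maximal _ hne
    exact hg ⟨m, hm.isPrime⟩ (hle (Ideal.subset_span ⟨_, rfl⟩))
  · rintro ⟨_, p, rfl⟩
    exact Module.FinitePresentation.of_equiv (LinearEquiv.ofBijective _ (hψ p))

lemma projective_of_isLocallyConstant [Module.Finite R M] [Module.Flat R M]
    (h : IsLocallyConstant (rankAtStalk (R := R) M)) : Module.Projective R M := by
  have := finitePresentation_of_isLocallyConstant h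
  exact Module.freeLocus_eq_univ_iff.1 Module.freeLocus_eq_univ

/-- If closed subsets stable under generalization are open, finite flat modules are projective. -/
lemma projective_of_isOpen
    (H : ∀ Z : Set (PrimeSpectrum R), IsClosed Z → StableUnderGeneralization Z → IsOpen Z)
    [Module.Finite R M] [Module.Flat R M] : Module.Projective R M := by
  refine projective_of_isLocallyConstant (isLocallyConstant_rankAtStalk_of_isOpen fun n ↦ ?_)
  cases n with
  | zero => simp
  | succ n =>
    refine H _ ?_ (stableUnderGeneralization_rankAtStalk _)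
    have : {p : PrimeSpectrum R | n + 1 ≤ rankAtStalk M p} =
        {p : PrimeSpectrum R | rankAtStalk M p ≤ n}ᶜ := by
      ext p; simp
    rw [this]
    exact (isOpen_rankAtStalk_le n).isClosed_compl

/-- The pure ideal attached to a closed subset `V(I)`. -/
def pureIdeal (I : Ideal R) : Ideal R where
  carrier := {x | ∃ i ∈ I, i * x = x}
  zero_mem' := ⟨0, I.zero_mem, by simp⟩
  add_mem' := by
    rintro x y ⟨i, hi, hx⟩ ⟨j, hj, hy⟩
    refine ⟨i + j - i * j, I.sub_mem (I.add_mem hi hj) (I.mul_mem_right _ hi), ?_⟩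
    linear_combination hx + hy - j * hx - i * hy
  smul_mem' := by
    rintro c x ⟨i, hi, hx⟩
    refine ⟨i, hi, ?_⟩
    rw [smul_eq_mul]; linear_combination c * hx

lemma mem_pureIdeal {I : Ideal R} {x : R} : x ∈ pureIdeal I ↔ ∃ i ∈ I, i * x = x := Iff.rfl

variable {I : Ideal R}

lemma exists_mul_eq_zero_of_mem {p : PrimeSpectrum R} (hp : I ≤ p.asIdeal) {x : R}
    (hx : x ∈ pureIdeal I) : ∃ s, s ∉ p.asIdeal ∧ s * x = 0 := by
  obtain ⟨i, hi, hix⟩ := hx
  refine ⟨1 - i, fun hh ↦ p.2.ne_top ((Ideal.eq_top_iff_one _).2 ?_), by linear_combination -hix⟩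
  simpa using p.asIdeal.add_mem hh (hp hi)

lemma pureIdeal_le {p : PrimeSpectrum R} (hp : I ≤ p.asIdeal) : pureIdeal I ≤ p.asIdeal := by
  intro x hx
  obtain ⟨s, hs, hsx⟩ := exists_mul_eq_zero_of_mem hp hx
  exact (p.2.mem_or_mem (hsx ▸ p.asIdeal.zero_mem)).resolve_left hs

lemma zeroLocus_pureIdeal {Z : Set (PrimeSpectrum R)} (hZI : Z = PrimeSpectrum.zeroLocus I)
    (hZ : StableUnderGeneralization Z) : PrimeSpectrum.zeroLocus (pureIdeal I : Set R) = Z := by
  subst hZI
  refine Set.eq_of_subset_of_subset (fun p hp ↦ ?_) (fun p hp ↦ pureIdeal_le hp)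
  by_contra hpI
  let T : Submonoid R :=
    { carrier := {a | ∃ i ∈ I, ∃ x ∉ p.asIdeal, a = (1 - i) * x}
      one_mem' := ⟨0, I.zero_mem, 1, fun h ↦ p.2.ne_top ((Ideal.eq_top_iff_one _).2 h), by simp⟩
      mul_mem' := by
        rintro a b ⟨i, hi, x, hx, rfl⟩ ⟨j, hj, y, hy, rfl⟩
        exact ⟨i + j - i * j, I.sub_mem (I.add_mem hi hj) (I.mul_mem_right _ hi), x * y,
          fun h ↦ (p.2.mem_or_mem h).elim hx hy, by ring⟩ }
  have hd : Disjoint ((⊥ : Ideal R) : Set R) (T : Set R) := by
    rw [Set.disjoint_left]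
    rintro a ha ⟨i, hi, x, hx, rfl⟩
    exact hx (hp ⟨i, hi, by linear_combination -(Ideal.mem_bot.1 ha)⟩)
  obtain ⟨q, hq, -, hqT⟩ := Ideal.exists_le_prime_disjoint ⊥ T hd
  have hqp : q ≤ p.asIdeal := fun a ha ↦ by
    by_contra h
    exact Set.disjoint_left.1 hqT ha ⟨0, I.zero_mem, a, h, by simp⟩
  have hne : q ⊔ I ≠ ⊤ := fun h ↦ by
    obtain ⟨a, ha, i, hi, hai⟩ := Submodule.mem_sup.1 ((Ideal.eq_top_iff_one _).1 h)
    refine Set.disjoint_left.1 hqT ha ⟨i, hi, 1, fun h ↦ p.2.ne_top ((Ideal.eq_top_iff_one _).2 h), ?_⟩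
    linear_combination hai
  obtain ⟨m, hm, hle⟩ := Ideal.exists_le_maximal _ hne
  have hmZ : (⟨m, hm.isPrime⟩ : PrimeSpectrum R) ∈ PrimeSpectrum.zeroLocus (I : Set R) :=
    (show I ≤ m from (le_sup_right (a := q)).trans hle)
  have hqZ := hZ (x := ⟨m, hm.isPrime⟩) (y := ⟨q, hq⟩)
    ((PrimeSpectrum.le_iff_specializes ⟨q, hq⟩ ⟨m, hm.isPrime⟩).1
      (show q ≤ m from (le_sup_left (b := I)).trans hle)) hmZ
  exact hpI (le_trans hqZ hqp)

/-- `R ⧸ pureIdeal I` is flat when `V(I)` is stable under generalization. -/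
lemma flat_quotient_pureIdeal {Z : Set (PrimeSpectrum R)}
    (hZI : Z = PrimeSpectrum.zeroLocus I) (hZ : StableUnderGeneralization Z) :
    Module.Flat R (R ⧸ pureIdeal I) := by
  refine Module.flat_of_localized_maximal _ fun P _ ↦ ?_
  set p : PrimeSpectrum R := ⟨P, inferInstance⟩
  let q : R →ₗ[R] R ⧸ pureIdeal I := (pureIdeal I).mkQ
  by_cases hp : I ≤ P
  · have hb : Function.Bijective (LocalizedModule.map P.primeCompl q) := by
      refine ⟨?_, LocalizedModule.map_surjective _ q (Submodule.mkQ_surjective _)⟩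
      rw [← LinearMap.ker_eq_bot, Submodule.eq_bot_iff]
      intro y hy
      induction y using LocalizedModule.induction_on with
      | h x s =>
        rw [LinearMap.mem_ker, LocalizedModule.map_mk, mk_eq_zero_iff] at hy
        obtain ⟨u, hu⟩ := hy
        rw [← map_smul, Submodule.mkQ_apply, Submodule.Quotient.mk_eq_zero]
          at hu
        obtain ⟨t, ht, htx⟩ := exists_mul_eq_zero_of_mem (p := p) hp hu
        rw [mk_eq_zero_iff]
        exact ⟨⟨t * u, P.primeCompl.mul_mem ht u.2⟩, by
          simpa [Submonoid.smul_def, mul_assoc] using htx⟩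
    have : Module.Flat R (LocalizedModule P.primeCompl R) := inferInstance
    exact Module.Flat.of_linearEquiv
      ((LinearEquiv.ofBijective _ hb).symm.restrictScalars R)
  · have hP : p ∉ PrimeSpectrum.zeroLocus (pureIdeal I : Set R) := by
      rw [zeroLocus_pureIdeal hZI hZ, hZI]; exact hp
    obtain ⟨x, hx, hxP⟩ := Set.not_subset.1 (PrimeSpectrum.mem_zeroLocus _ _ |>.not.1 hP)
    have : Subsingleton (LocalizedModule P.primeCompl (R ⧸ pureIdeal I)) := by
      rw [← Module.notMem_support_iff (p := p), Module.notMem_support_iff']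
      intro m
      obtain ⟨r, rfl⟩ := Submodule.Quotient.mk_surjective _ m
      refine ⟨x, hxP, ?_⟩
      rw [← Submodule.Quotient.mk_smul, Submodule.Quotient.mk_eq_zero]
      exact Ideal.mul_mem_right _ _ hx
    infer_instance

/-- A projective `R ⧸ J` forces `V(J)` to be clopen. -/
lemma isOpen_zeroLocus_of_projective (J : Ideal R) [Module.Projective R (R ⧸ J)] :
    IsOpen (PrimeSpectrum.zeroLocus (J : Set R)) := by
  obtain ⟨σ, hσ⟩ := Module.projective_lifting_property (J.mkQ : R →ₗ[R] R ⧸ J) LinearMap.id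
    (Submodule.mkQ_surjective _)
  set e : R := σ (Submodule.Quotient.mk 1) with he
  have h1 : 1 - e ∈ J := by
    rw [← Submodule.Quotient.mk_eq_zero, Submodule.Quotient.mk_sub, sub_eq_zero]
    exact (LinearMap.congr_fun hσ (Submodule.Quotient.mk (1 : R))).symm
  have h2 : ∀ x ∈ J, x * e = 0 := fun x hx ↦ by
    rw [he, ← smul_eq_mul, ← map_smul, ← Submodule.Quotient.mk_smul, smul_eq_mul, mul_one,
      (Submodule.Quotient.mk_eq_zero _).2 hx, map_zero]
  have : PrimeSpectrum.zeroLocus (J : Set R) = PrimeSpectrum.basicOpen e := by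
    ext p
    refine ⟨fun hp he' ↦ p.2.ne_top ((Ideal.eq_top_iff_one _).2 ?_), fun hp x hx ↦ ?_⟩
    · simpa using p.asIdeal.add_mem (hp h1) he'
    · exact (p.2.mem_or_mem (h2 x hx ▸ p.asIdeal.zero_mem)).resolve_right hp
  rw [this]
  exact (PrimeSpectrum.basicOpen e).2

end Groth.Agent.FlatGenStable
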